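import Groth.Agent.Lib.ExalLib.Char
import Groth.Agent.Lib.ImperfDelta.Basic
import Groth.Agent.S5821

/-!
# The characteristic homomorphism of the infinitesimal extension over an intermediate ring
-/

set_option autoImplicit false
set_option linter.style.haveILetI false
set_option maxHeartbeats 1000000
universe u v

open TensorProduct Exal

namespace GrothLib.InfCharHom

variable {Λ : Type u} {A B : Type v} [CommRing Λ] [CommRing A] [CommRing B] [Algebra Λ A] [Algebra Λ B] [Algebra A B]
  [IsScalarTower Λ A B] (K : Ideal B)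

/-- The data of the characteristic homomorphism. -/
theorem exists_big (htriv : ((Exal.Ext.infinitesimal K).restrictBase A).IsTrivialOver Λ)
    (χ : ↥(EGA41.imperfection Λ A (B ⧸ K)) →ₗ[B ⧸ K] K.Cotangent)
    (hχ : ((Exal.Ext.infinitesimal K).restrictBase A).IsCharHom Λ χ) :
    ∃ χB : ↥(EGA41.imperfection Λ B (B ⧸ K)) →ₗ[B ⧸ K] K.Cotangent, Function.Bijective χB ∧
      (∀ (z : ↥(EGA41.imperfection Λ A (B ⧸ K))) (hz : GrothLib.ImperfDelta.inner Λ A B (B ⧸ K) z.1 ∈ EGA41.imperfection Λ B (B ⧸ K)),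
        χ z = χB ⟨_, hz⟩) ∧
      ∀ (x : B) (hx : x ∈ K) (hm : (1 : B ⧸ K) ⊗ₜ[B] KaehlerDifferential.D Λ B x ∈ EGA41.imperfection Λ B (B ⧸ K)),
        χB ⟨_, hm⟩ = K.toCotangent ⟨x, hx⟩ := by
  haveI : IsScalarTower A (B ⧸ K) K.Cotangent := IsScalarTower.of_algebraMap_smul fun a z => by
    rw [IsScalarTower.algebraMap_apply A B (B ⧸ K), algebraMap_smul, algebraMap_smul]
  haveI : IsScalarTower Λ (B ⧸ K) K.Cotangent := IsScalarTower.of_algebraMap_smul fun a z => by
    rw [IsScalarTower.algebraMap_apply Λ B (B ⧸ K), algebraMap_smul, algebraMap_smul]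
  haveI : IsScalarTower Λ A K.Cotangent := IsScalarTower.of_algebraMap_smul fun a z => by
    rw [← algebraMap_smul B (algebraMap Λ A a) z, ← IsScalarTower.algebraMap_apply, algebraMap_smul]
  haveI : IsScalarTower Λ B K.Cotangent := IsScalarTower.of_algebraMap_smul fun a z => algebraMap_smul B a z
  let X' := (Exal.Ext.infinitesimal K).restrictBase A
  let XB := Exal.Ext.infinitesimal K
  obtain ⟨s, hs, D, hD⟩ := GrothLib.ExalLib.exists_data X' htriv
  have h1 := (GrothLib.ExalLib.isCharHom_iff X' s hs D hD χ).1 hχ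
  let sB : (B ⧸ K) →ₐ[Λ] XB.RestrictCarrier Λ :=
    { toFun := fun c => s c
      map_one' := map_one s
      map_mul' := map_mul s
      map_zero' := map_zero s
      map_add' := map_add s
      commutes' := fun a => by
        show s (algebraMap Λ (B ⧸ K) a) = algebraMap B XB.E (algebraMap Λ B a)
        rw [AlgHom.commutes, IsScalarTower.algebraMap_apply Λ A B]
        rfl }
  have hsB : ∀ c, (XB.restrictBase Λ).proj (sB c) = c := hs
  obtain ⟨DB, hDB⟩ := GrothLib.ExalLib.exists_derivation (XB.restrictBase Λ) (P := B)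
    { toFun := fun b => algebraMap B XB.E b
      map_one' := map_one (algebraMap B XB.E)
      map_mul' := map_mul (algebraMap B XB.E)
      map_zero' := map_zero (algebraMap B XB.E)
      map_add' := map_add (algebraMap B XB.E)
      commutes' := fun _ => rfl }
    (sB.comp (IsScalarTower.toAlgHom Λ B (B ⧸ K))) (fun b => XB.proj.commutes b) (fun b => hsB _)
  have hDB' : ∀ b, algebraMap B XB.E b = (show XB.E from sB (algebraMap B (B ⧸ K) b)) + XB.incl (DB b) := hDB
  have hDD : ∀ a, D a = DB (algebraMap A B a) := fun a => by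
    refine XB.isExtension.incl_injective ?_
    have e := (hD a).symm.trans (hDB' (algebraMap A B a))
    exact add_left_cancel (G := B ⧸ K ^ 2) e
  obtain ⟨Φ, hΦ⟩ : ∃ Φ : ↥(EGA41.imperfection Λ B (B ⧸ K)) →ₗ[B ⧸ K] K.Cotangent,
      ∀ z, Φ z = GrothLib.ExalLib.diffMap DB z.1 := ⟨(GrothLib.ExalLib.diffMap DB).comp (Submodule.subtype _), fun _ => rfl⟩
  have hXB : XB.IsCharHom Λ Φ := (GrothLib.ExalLib.isCharHom_iff XB sB hsB DB hDB' Φ).2 hΦ
  refine ⟨Φ, Groth.Agent.S5821.result K ⟨sB, hsB⟩ Φ hXB, fun z hz => ?_, fun x hx hm => ?_⟩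
  · rw [h1, hΦ]
    show GrothLib.ExalLib.diffMap D z.1 = GrothLib.ExalLib.diffMap DB (GrothLib.ImperfDelta.inner Λ A B (B ⧸ K) z.1)
    have key : ∀ w, GrothLib.ExalLib.diffMap (C := B ⧸ K) D w =
        GrothLib.ExalLib.diffMap DB (GrothLib.ImperfDelta.inner Λ A B (B ⧸ K) w) := fun w => by
      induction w using TensorProduct.induction_on with
      | zero => simp only [map_zero]
      | add a b ha hb => simp only [map_add, ha, hb]
      | tmul c ω =>
        rw [GrothLib.ImperfDelta.inner_tmul]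
        induction Submodule.eq_top_iff'.1 (KaehlerDifferential.span_range_derivation Λ A) ω using Submodule.span_induction with
        | mem y hy =>
          obtain ⟨a, rfl⟩ := hy
          rw [KaehlerDifferential.map_D, GrothLib.ExalLib.diffMap_tmul_D, GrothLib.ExalLib.diffMap_tmul_D, hDD]
        | zero => simp only [map_zero, tmul_zero]
        | add a b _ _ ha hb => simp only [map_add, tmul_add, ha, hb]
        | smul a y _ hy =>
          rw [map_smul, tmul_smul, tmul_smul, LinearMap.map_smul_of_tower, LinearMap.map_smul_of_tower, hy]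
    exact key z.1
  · rw [hΦ, GrothLib.ExalLib.diffMap_tmul_D, one_smul]
    refine XB.isExtension.incl_injective ?_
    have h2 := hDB' x
    rw [show algebraMap B (B ⧸ K) x = 0 from Ideal.Quotient.eq_zero_iff_mem.2 hx] at h2
    refine Eq.symm (Eq.trans ?_ (h2.trans ((congrArg (· + XB.incl (DB x)) (map_zero sB)).trans (zero_add _))))
    rfl

/-- The kernel and the image of the characteristic homomorphism. -/
theorem ker_range (htriv : ((Exal.Ext.infinitesimal K).restrictBase A).IsTrivialOver Λ)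
    (χ : ↥(EGA41.imperfection Λ A (B ⧸ K)) →ₗ[B ⧸ K] K.Cotangent)
    (hχ : ((Exal.Ext.infinitesimal K).restrictBase A).IsCharHom Λ χ) :
    (∀ z, χ z = 0 ↔ GrothLib.ImperfDelta.inner Λ A B (B ⧸ K) z.1 = 0) ∧
      ∀ (x : B) (hx : x ∈ K), K.toCotangent ⟨x, hx⟩ ∈ LinearMap.range χ ↔
        (1 : B ⧸ K) ⊗ₜ[B] KaehlerDifferential.D A B x = (0 : (B ⧸ K) ⊗[B] Ω[B⁄A]) := by
  obtain ⟨χB, hbij, hz, hx'⟩ := exists_big K htriv χ hχ
  have hmem : ∀ z : ↥(EGA41.imperfection Λ A (B ⧸ K)),
      GrothLib.ImperfDelta.inner Λ A B (B ⧸ K) z.1 ∈ EGA41.imperfection Λ B (B ⧸ K) := fun z => by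
    show KaehlerDifferential.mapBaseChange Λ B (B ⧸ K) _ = 0
    rw [GrothLib.ImperfDelta.mapBaseChange_inner]
    exact z.2
  refine ⟨fun z => ?_, fun x hx => ?_⟩
  · rw [hz z (hmem z), map_eq_zero_iff χB hbij.1]
    exact ⟨fun h => congrArg Subtype.val h, fun h => Subtype.ext h⟩
  · have hm : (1 : B ⧸ K) ⊗ₜ[B] KaehlerDifferential.D Λ B x ∈ EGA41.imperfection Λ B (B ⧸ K) := by
      show KaehlerDifferential.mapBaseChange Λ B (B ⧸ K) _ = 0
      rw [KaehlerDifferential.mapBaseChange_tmul, KaehlerDifferential.map_D, Ideal.Quotient.algebraMap_eq,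
        Ideal.Quotient.eq_zero_iff_mem.2 hx, map_zero, smul_zero]
    have hmapD : (KaehlerDifferential.map Λ A B B).baseChange (B ⧸ K) ((1 : B ⧸ K) ⊗ₜ[B] KaehlerDifferential.D Λ B x) =
        (1 : B ⧸ K) ⊗ₜ[B] KaehlerDifferential.D A B x := by
      rw [LinearMap.baseChange_tmul, KaehlerDifferential.map_D, Algebra.algebraMap_self, RingHom.id_apply]
    constructor
    · rintro ⟨z, hzx⟩
      rw [hz z (hmem z), ← hx' x hx hm] at hzx
      rw [← hmapD]
      refine (congrArg _ (congrArg Subtype.val (hbij.1 hzx)).symm).trans ?_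
      exact GrothLib.ImperfDelta.map_inner_eq_zero Λ A B (B ⧸ K) z.1
    · intro h0
      obtain ⟨t, ht⟩ : (1 : B ⧸ K) ⊗ₜ[B] KaehlerDifferential.D Λ B x ∈
          LinearMap.range (GrothLib.ImperfDelta.inner Λ A B (B ⧸ K)) := by
        rw [GrothLib.ImperfDelta.range_inner, LinearMap.mem_ker, hmapD, h0]
      have htm : t ∈ EGA41.imperfection Λ A (B ⧸ K) := by
        show KaehlerDifferential.mapBaseChange Λ A (B ⧸ K) t = 0
        rw [← GrothLib.ImperfDelta.mapBaseChange_inner Λ A B (B ⧸ K), ht]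
        exact hm
      refine ⟨⟨t, htm⟩, ?_⟩
      rw [hz ⟨t, htm⟩ (hmem ⟨t, htm⟩), ← hx' x hx hm]
      exact congrArg χB (Subtype.ext ht)

/-- The inner differentials inject when the top ring is formally smooth over the middle one. -/
theorem inner_injective [Algebra.FormallySmooth A B] (M : Type v) [CommRing M] [Algebra B M] [Algebra A M]
    [IsScalarTower A B M] : Function.Injective (GrothLib.ImperfDelta.inner Λ A B M) := by
  have hinj : Function.Injective (KaehlerDifferential.mapBaseChange Λ A B) := (injective_iff_map_eq_zero _).2 fun x hx => by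
    obtain ⟨y, rfl⟩ := (Algebra.H1Cotangent.exact_δ_mapBaseChange Λ A B x).1 hx
    rw [Subsingleton.elim y 0, map_zero]
  have h := LinearMap.lTensor_injective_of_exact_of_flat (KaehlerDifferential.map Λ A B B)
    (KaehlerDifferential.map_surjective Λ A B) (KaehlerDifferential.mapBaseChange Λ A B) hinj
    (KaehlerDifferential.exact_mapBaseChange_map Λ A B) M
  exact h.comp (LinearEquiv.injective _)

end GrothLib.InfCharHom
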